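import Mathlib

/-!
# Dimensions of quotients by powers of an ideal
-/

set_option autoImplicit false

universe u

namespace GrothLib.ArtinAlgz1

theorem exists_algEquiv_of_ker_eq {k P Q T : Type u} [CommRing k] [CommRing P] [CommRing Q] [CommRing T]
    [Algebra k P] [Algebra k Q] [Algebra k T] (f : P →ₐ[k] Q) (hf : Function.Surjective f) (g : P →ₐ[k] T)
    (hg : Function.Surjective g) (h : RingHom.ker f = RingHom.ker g) :
    ∃ e : Q ≃ₐ[k] T, ∀ x, e (f x) = g x := by
  refine ⟨((Ideal.quotientKerAlgEquivOfSurjective hf).symm.trans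
    (Ideal.quotientEquivAlgOfEq k h)).trans (Ideal.quotientKerAlgEquivOfSurjective hg), fun x => ?_⟩
  rw [AlgEquiv.trans_apply, AlgEquiv.trans_apply,
    show (Ideal.quotientKerAlgEquivOfSurjective hf).symm (f x) = Ideal.Quotient.mk _ x from
      (AlgEquiv.symm_apply_eq _).2 rfl]
  rfl

variable {k P : Type u} [Field k] [CommRing P] [Algebra k P]

theorem finite_quotient_pow (M : Ideal P) (hM : M.FG) (hres : ∀ x : P, ∃ c : k, x - algebraMap k P c ∈ M) (n : ℕ) :
    Module.Finite k (P ⧸ M ^ n) := by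
  induction n with
  | zero =>
    haveI : Subsingleton (P ⧸ M ^ 0) := by
      rw [pow_zero, Ideal.one_eq_top]; exact Ideal.Quotient.subsingleton_iff.2 rfl
    infer_instance
  | succ n ih =>
    obtain ⟨f, hf⟩ : ∃ f : (P ⧸ M ^ (n + 1)) →ₗ[k] (P ⧸ M ^ n),
        f = (Ideal.Quotient.factorₐ k (Ideal.pow_le_pow_right n.le_succ)).toLinearMap := ⟨_, rfl⟩
    refine ⟨Submodule.fg_of_fg_map_of_fg_inf_ker f (IsNoetherian.noetherian _) ?_⟩
    obtain ⟨r, g, hg⟩ := Submodule.fg_iff_exists_fin_generating_family.1 (hM.pow (n := n))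
    rw [top_inf_eq, Submodule.fg_iff_exists_fin_generating_family]
    refine ⟨r, fun i => Ideal.Quotient.mk _ (g i), le_antisymm (Submodule.span_le.2 ?_) fun x hx => ?_⟩
    · rintro _ ⟨i, rfl⟩
      rw [hf]
      exact Ideal.Quotient.eq_zero_iff_mem.2 (hg.le (Submodule.subset_span ⟨i, rfl⟩))
    · obtain ⟨x, rfl⟩ := Ideal.Quotient.mk_surjective x
      rw [hf] at hx
      have hxn : x ∈ M ^ n := Ideal.Quotient.eq_zero_iff_mem.1 hx
      rw [← hg] at hxn
      obtain ⟨b, rfl⟩ := (Submodule.mem_span_range_iff_exists_fun P).1 hxn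
      choose c hc using fun i => hres (b i)
      have h1 : Ideal.Quotient.mk (M ^ (n + 1)) (∑ i, b i • g i) = ∑ i, c i • Ideal.Quotient.mk (M ^ (n + 1)) (g i) := by
        rw [map_sum]
        refine Finset.sum_congr rfl fun i _ => ?_
        rw [← Ideal.Quotient.mkₐ_eq_mk k, ← map_smul, Ideal.Quotient.mkₐ_eq_mk, Ideal.Quotient.eq,
          smul_eq_mul, Algebra.smul_def (c i) (g i), ← sub_mul, pow_succ']
        exact Ideal.mul_mem_mul (hc i) (hg.le (Submodule.subset_span ⟨i, rfl⟩))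
      rw [h1]
      exact Submodule.sum_mem _ fun i _ => Submodule.smul_mem _ _ (Submodule.subset_span ⟨i, rfl⟩)

theorem finrank_eq (M I I' : Ideal P) (hM : M.FG) (hres : ∀ x : P, ∃ c : k, x - algebraMap k P c ∈ M)
    (h : ∀ n, ∀ a ∈ M ^ n, (a ∈ I ⊔ M ^ (n + 1) ↔ a ∈ I' ⊔ M ^ (n + 1))) (n : ℕ) :
    Module.finrank k (P ⧸ (I ⊔ M ^ n)) = Module.finrank k (P ⧸ (I' ⊔ M ^ n)) := by
  have hfin : ∀ (J : Ideal P) m, Module.Finite k (P ⧸ (J ⊔ M ^ m)) := fun J m =>
    haveI := finite_quotient_pow M hM hres m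
    Module.Finite.of_surjective (Ideal.Quotient.factorₐ k (le_sup_right : M ^ m ≤ J ⊔ M ^ m)).toLinearMap
      (Ideal.Quotient.factor_surjective (le_sup_right : M ^ m ≤ J ⊔ M ^ m))
  induction n with
  | zero =>
    rw [pow_zero, Ideal.one_eq_top, sup_top_eq, sup_top_eq]
  | succ n ih =>
    obtain ⟨f, hf⟩ : ∃ f : (J : Ideal P) → (P ⧸ (J ⊔ M ^ (n + 1))) →ₗ[k] (P ⧸ (J ⊔ M ^ n)),
        f = fun J => (Ideal.Quotient.factorₐ k (sup_le_sup_left (Ideal.pow_le_pow_right n.le_succ) J)).toLinearMap :=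
      ⟨_, rfl⟩
    obtain ⟨κ, hκ⟩ : ∃ κ : (J : Ideal P) → ((M ^ n).restrictScalars k) →ₗ[k] (P ⧸ (J ⊔ M ^ (n + 1))),
        κ = fun J => ((Ideal.Quotient.mkₐ k (J ⊔ M ^ (n + 1))).toLinearMap).comp ((M ^ n).restrictScalars k).subtype :=
      ⟨_, rfl⟩
    have hrange : ∀ J, LinearMap.ker (f J) = LinearMap.range (κ J) := by
      intro J
      ext x
      obtain ⟨x, rfl⟩ := Ideal.Quotient.mk_surjective x
      rw [hf, hκ]
      constructor
      · intro hx
        obtain ⟨j, hj, w, hw, hjw⟩ := Submodule.mem_sup.1 (Ideal.Quotient.eq_zero_iff_mem.1 hx)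
        refine ⟨⟨w, hw⟩, Ideal.Quotient.eq.2 (Ideal.mem_sup_left ?_)⟩
        show w - x ∈ J
        rw [← hjw, show w - (j + w) = -j by ring]
        exact neg_mem hj
      · rintro ⟨w, hw⟩
        show Ideal.Quotient.factor (sup_le_sup_left (Ideal.pow_le_pow_right n.le_succ) J) (Ideal.Quotient.mk (J ⊔ M ^ (n + 1)) x) = 0
        rw [← hw]
        exact Ideal.Quotient.eq_zero_iff_mem.2 (Ideal.mem_sup_right w.2)
    have hk : LinearMap.ker (κ I) = LinearMap.ker (κ I') := by
      ext w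
      rw [hκ]
      exact Ideal.Quotient.eq_zero_iff_mem.trans ((h n w w.2).trans Ideal.Quotient.eq_zero_iff_mem.symm)
    have hr : Module.finrank k (LinearMap.range (κ I)) = Module.finrank k (LinearMap.range (κ I')) :=
      (((κ I).quotKerEquivRange.symm.trans (Submodule.quotEquivOfEq _ _ hk)).trans (κ I').quotKerEquivRange).finrank_eq
    have hdim : ∀ J, Module.finrank k (P ⧸ (J ⊔ M ^ (n + 1))) =
        Module.finrank k (P ⧸ (J ⊔ M ^ n)) + Module.finrank k (LinearMap.range (κ J)) := fun J => by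
      haveI := hfin J (n + 1)
      rw [← LinearMap.finrank_range_add_finrank_ker (f J), hrange,
        LinearMap.range_eq_top.2 (by rw [hf]; exact Ideal.Quotient.factor_surjective (sup_le_sup_left (Ideal.pow_le_pow_right n.le_succ) J)), finrank_top]
    rw [hdim, hdim, ih, hr]

end GrothLib.ArtinAlgz1
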