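import Groth.Prelude.Def_GrMap
import Mathlib

/-!
# Surjective and bijective maps of associated graded rings
-/

set_option autoImplicit false

universe u

open Polynomial

namespace GrothLib.ArtinAlgz1

open AssocGr

variable {A B : Type u} [CommRing A] [CommRing B] {φ : A →+* B} {𝓕 : FiltBl.IdealFiltration A}
  {𝓖 : FiltBl.IdealFiltration B}

theorem map_mkG_eq_zero_iff (h : IsFiltHom φ 𝓕 𝓖) (f : 𝓕.rees) :
    AssocGr.map h (mkG 𝓕 f) = 0 ↔ ∀ n, φ ((f : A[X]).coeff n) ∈ 𝓖.F (n + 1) := by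
  rw [map_mkG, mkG_eq_zero_iff, mem_succIdeal_iff]
  simp only [coe_reesMap, Polynomial.coeff_map]

theorem exists_mem_gr (h : IsFiltHom φ 𝓕 𝓖)
    (hs : ∀ n, ∀ b ∈ 𝓖.F n, ∃ a ∈ 𝓕.F n, b - φ a ∈ 𝓖.F (n + 1)) (n : ℕ) {y : GrRing 𝓖} (hy : y ∈ gr 𝓖 n) :
    ∃ x ∈ gr 𝓕 n, AssocGr.map h x = y := by
  obtain ⟨b, hb⟩ := inDeg_surjective 𝓖 n ⟨y, hy⟩
  obtain ⟨a, ha, hab⟩ := hs n b b.2
  refine ⟨_, (inDeg 𝓕 n ⟨a, ha⟩).2, ?_⟩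
  rw [map_inDeg, ← show ((inDeg 𝓖 n b : gr 𝓖 n) : GrRing 𝓖) = y from congrArg Subtype.val hb]
  refine congrArg Subtype.val (sub_eq_zero.1 ?_)
  rw [← map_sub, inDeg_eq_zero_iff]
  show φ a - (b : B) ∈ 𝓖.F (n + 1)
  rw [← neg_sub]
  exact neg_mem hab

theorem map_surjective (h : IsFiltHom φ 𝓕 𝓖)
    (hs : ∀ n, ∀ b ∈ 𝓖.F n, ∃ a ∈ 𝓕.F n, b - φ a ∈ 𝓖.F (n + 1)) : Function.Surjective (AssocGr.map h) := by
  intro y
  obtain ⟨f, rfl⟩ := mkG_surjective 𝓖 y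
  rw [← sum_term 𝓖 f, map_sum]
  choose x _ hx using fun n => exists_mem_gr h hs n (mkG_mem_gr 𝓖 (term_mem_deg 𝓖 f n))
  exact ⟨∑ n ∈ (f : B[X]).support, x n, by rw [map_sum]; exact Finset.sum_congr rfl fun n _ => hx n⟩

theorem map_bijective (h : IsFiltHom φ 𝓕 𝓖)
    (hs : ∀ n, ∀ b ∈ 𝓖.F n, ∃ a ∈ 𝓕.F n, b - φ a ∈ 𝓖.F (n + 1))
    (hi : ∀ n, ∀ a ∈ 𝓕.F n, φ a ∈ 𝓖.F (n + 1) → a ∈ 𝓕.F (n + 1)) : Function.Bijective (AssocGr.map h) := by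
  refine ⟨(injective_iff_map_eq_zero _).2 fun y hy => ?_, map_surjective h hs⟩
  obtain ⟨f, rfl⟩ := mkG_surjective 𝓕 y
  rw [mkG_eq_zero_iff, mem_succIdeal_iff]
  exact fun n => hi n _ (f.2 n) ((map_mkG_eq_zero_iff h f).1 hy n)

/-- Two quotients of a filtered ring with the same initial kernel have isomorphic graded rings. -/
theorem exists_iso_of_ker_eq {C : Type u} [CommRing C] {ψ : A →+* C} {𝓗 : FiltBl.IdealFiltration C}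
    (h : IsFiltHom φ 𝓕 𝓖) (h' : IsFiltHom ψ 𝓕 𝓗)
    (hs : ∀ n, ∀ b ∈ 𝓖.F n, ∃ a ∈ 𝓕.F n, b - φ a ∈ 𝓖.F (n + 1))
    (hs' : ∀ n, ∀ c ∈ 𝓗.F n, ∃ a ∈ 𝓕.F n, c - ψ a ∈ 𝓗.F (n + 1))
    (hker : ∀ n, ∀ a ∈ 𝓕.F n, φ a ∈ 𝓖.F (n + 1) ↔ ψ a ∈ 𝓗.F (n + 1)) :
    ∃ e : GrRing 𝓖 ≃+* GrRing 𝓗, (∀ n, ∀ x ∈ gr 𝓖 n, e x ∈ gr 𝓗 n) ∧
      ∀ x, e (AssocGr.map h x) = AssocGr.map h' x := by
  have hk : RingHom.ker (AssocGr.map h) = RingHom.ker (AssocGr.map h') := by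
    ext x
    obtain ⟨f, rfl⟩ := mkG_surjective 𝓕 x
    rw [RingHom.mem_ker, RingHom.mem_ker, map_mkG_eq_zero_iff, map_mkG_eq_zero_iff]
    exact forall_congr' fun n => hker n _ (f.2 n)
  obtain ⟨e, he⟩ : ∃ e : GrRing 𝓖 ≃+* GrRing 𝓗, ∀ x, e (AssocGr.map h x) = AssocGr.map h' x := by
    refine ⟨((RingHom.quotientKerEquivOfSurjective (map_surjective h hs)).symm.trans
      (Ideal.quotEquivOfEq hk)).trans (RingHom.quotientKerEquivOfSurjective (map_surjective h' hs')), fun x => ?_⟩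
    rw [RingEquiv.trans_apply, RingEquiv.trans_apply,
      show (RingHom.quotientKerEquivOfSurjective (map_surjective h hs)).symm (AssocGr.map h x) =
        Ideal.Quotient.mk _ x from (RingEquiv.symm_apply_eq _).2 rfl]
    rfl
  refine ⟨e, fun n x hx => ?_, he⟩
  obtain ⟨y, hy, rfl⟩ := exists_mem_gr h hs n hx
  rw [he]
  exact map_mem_gr h' hy

end GrothLib.ArtinAlgz1
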