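import Mathlib

/-!
# Perturbing generators and syzygies does not change initial ideals
-/

set_option autoImplicit false

universe u

namespace GrothLib.ArtinAlgz1

variable {P : Type u} [CommRing P]

theorem mem_pow_smul_top_iff {r : ℕ} (M : Ideal P) (x : Fin r → P) :
    x ∈ M • (⊤ : Submodule P (Fin r → P)) ↔ ∀ i, x i ∈ M := by
  classical
  refine ⟨fun h i => ?_, fun h => ?_⟩
  · have h1 := Submodule.mem_map_of_mem (f := LinearMap.proj (φ := fun _ : Fin r => P) i) h
    rw [Submodule.map_smul''] at h1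
    exact (Submodule.smul_mono (le_refl M) (le_top : _ ≤ (⊤ : Submodule P P))).trans (Ideal.mul_top M).le h1
  · rw [pi_eq_sum_univ x]
    exact Submodule.sum_mem _ fun i _ => Submodule.smul_mem_smul (h i) trivial

/-- Artin–Rees for a map of free modules. -/
theorem exists_lift_bound [IsNoetherianRing P] (M : Ideal P) {r : ℕ} {N : Type u} [AddCommGroup N] [Module P N]
    [Module.Finite P N] (L : (Fin r → P) →ₗ[P] N) :
    ∃ k : ℕ, ∀ (n : ℕ) (y : N), y ∈ M ^ n • (⊤ : Submodule P N) → y ∈ LinearMap.range L →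
      ∃ b : Fin r → P, (∀ i, b i ∈ M ^ (n - k)) ∧ L b = y := by
  obtain ⟨k, hk⟩ := Ideal.exists_pow_inf_eq_pow_smul M (LinearMap.range L)
  refine ⟨k, fun n y hy hyL => ?_⟩
  have h1 : y ∈ M ^ (n - k) • LinearMap.range L := by
    rcases le_or_gt k n with hkn | hkn
    · exact Submodule.smul_mono le_rfl inf_le_right ((hk n hkn).le ⟨hy, hyL⟩)
    · rw [Nat.sub_eq_zero_of_le hkn.le, pow_zero, Ideal.one_eq_top, Submodule.top_smul]
      exact hyL
  rw [LinearMap.range_eq_map, ← Submodule.map_smul''] at h1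
  obtain ⟨b, hb, hby⟩ := h1
  exact ⟨b, (mem_pow_smul_top_iff _ b).1 hb, hby⟩

/-- Generators and syzygies close to the given ones define the same initial ideal. -/
theorem exists_bound [IsNoetherianRing P] (M : Ideal P) {r : ℕ} (f : Fin r → P) :
    ∃ (t : ℕ) (z : Fin t → Fin r → P), (∀ m, ∑ i, z m i * f i = 0) ∧ ∃ c : ℕ,
      ∀ (f' : Fin r → P) (z' : Fin t → Fin r → P), (∀ i, f' i - f i ∈ M ^ c) →
        (∀ m i, z' m i - z m i ∈ M ^ c) → (∀ m, ∑ i, z' m i * f' i = 0) →
        ∀ n : ℕ, Ideal.span (Set.range f) ⊓ M ^ n ≤ Ideal.span (Set.range f') ⊔ M ^ (n + 1) ∧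
          Ideal.span (Set.range f') ⊓ M ^ n ≤ Ideal.span (Set.range f) ⊔ M ^ (n + 1) := by
  obtain ⟨L, hL⟩ : ∃ L, L = Fintype.linearCombination P f := ⟨_, rfl⟩
  have hLa : ∀ a, L a = ∑ i, a i * f i := fun a => by rw [hL]; rfl
  obtain ⟨t, z, hz⟩ := Submodule.fg_iff_exists_fin_generating_family.1 (IsNoetherian.noetherian (LinearMap.ker L))
  have hz0 : ∀ m, ∑ i, z m i * f i = 0 := fun m => by
    rw [← hLa]
    exact (hz.le (Submodule.subset_span ⟨m, rfl⟩) : z m ∈ LinearMap.ker L)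
  obtain ⟨k₁, hk₁⟩ := exists_lift_bound M L
  obtain ⟨k₂, hk₂⟩ := exists_lift_bound M (Fintype.linearCombination P z)
  refine ⟨t, z, hz0, k₁ + k₂ + 1, fun f' z' hf' hz' hz'0 n => ?_⟩
  have hclose : ∀ (a : Fin r → P) (k : ℕ), (∀ i, a i ∈ M ^ k) →
      ∑ i, a i * f' i - ∑ i, a i * f i ∈ M ^ (k + (k₁ + k₂ + 1)) := fun a k ha => by
    rw [← Finset.sum_sub_distrib, pow_add]
    exact Ideal.sum_mem _ fun i _ => by rw [← mul_sub]; exact Ideal.mul_mem_mul (ha i) (hf' i)
  constructor
  · rintro h ⟨hh, hhn⟩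
    obtain ⟨b, hb, hbh⟩ := hk₁ n h (by rwa [smul_eq_mul, Ideal.mul_top]) (by
      rw [hL, Fintype.range_linearCombination]; exact hh)
    rw [hLa] at hbh
    have h1 := hclose b _ hb
    rw [hbh] at h1
    refine Submodule.mem_sup.2 ⟨∑ i, b i * f' i,
      Ideal.sum_mem _ fun i _ => Ideal.mul_mem_left _ _ (Ideal.subset_span ⟨i, rfl⟩),
      h - ∑ i, b i * f' i, ?_, add_sub_cancel _ _⟩
    refine Ideal.pow_le_pow_right (by omega : n + 1 ≤ n - k₁ + (k₁ + k₂ + 1)) ?_
    rw [← neg_sub]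
    exact neg_mem h1
  · suffices key : ∀ (d k : ℕ), n + 1 - k ≤ d → ∀ a : Fin r → P, (∀ i, a i ∈ M ^ k) →
        ∑ i, a i * f' i ∈ M ^ n → ∑ i, a i * f' i ∈ Ideal.span (Set.range f) ⊔ M ^ (n + 1) by
      rintro h ⟨hh, hhn⟩
      obtain ⟨a, rfl⟩ := (Submodule.mem_span_range_iff_exists_fun P).1 hh
      exact key (n + 1) 0 (by omega) a (fun i => by rw [pow_zero, Ideal.one_eq_top]; trivial) hhn
    intro d
    induction d with
    | zero =>
      intro k hk a ha _
      refine Ideal.mem_sup_right (Ideal.sum_mem _ fun i _ => Ideal.mul_mem_right _ _ ?_)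
      exact Ideal.pow_le_pow_right (by omega) (ha i)
    | succ d ih =>
      intro k hk a ha hn
      rcases lt_or_ge n (k + (k₁ + k₂ + 1)) with hlt | hge
      · refine Submodule.mem_sup.2 ⟨∑ i, a i * f i,
          Ideal.sum_mem _ fun i _ => Ideal.mul_mem_left _ _ (Ideal.subset_span ⟨i, rfl⟩),
          _, Ideal.pow_le_pow_right (by omega) (hclose a k ha), add_sub_cancel _ _⟩
      · have hLm : L a ∈ M ^ (k + (k₁ + k₂ + 1)) • (⊤ : Submodule P P) := by
          rw [smul_eq_mul, Ideal.mul_top, hLa,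
            show ∑ i, a i * f i = ∑ i, a i * f' i - (∑ i, a i * f' i - ∑ i, a i * f i) by ring]
          exact sub_mem (Ideal.pow_le_pow_right hge hn) (hclose a k ha)
        obtain ⟨b, hb, hbL⟩ := hk₁ _ _ hLm ⟨a, rfl⟩
        have hbk : ∀ i, b i ∈ M ^ (k + 1) := fun i => Ideal.pow_le_pow_right (by omega) (hb i)
        obtain ⟨e, he, hea⟩ := hk₂ k (a - b)
          ((mem_pow_smul_top_iff _ _).2 fun i => sub_mem (ha i) (Ideal.pow_le_pow_right (by omega) (hbk i))) (by
          rw [Fintype.range_linearCombination, hz, LinearMap.mem_ker, map_sub, hbL, sub_self])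
        have hsum : ∀ i, ∑ m, e m * z m i = a i - b i := fun i => by
          have := congrFun hea i
          simpa [Fintype.linearCombination_apply, Finset.sum_apply] using this
        obtain ⟨a', ha'⟩ : ∃ a' : Fin r → P, a' = fun i => b i + ∑ m, e m * (z m i - z' m i) := ⟨_, rfl⟩
        have ha'k : ∀ i, a' i ∈ M ^ (k + 1) := fun i => by
          rw [ha']
          refine add_mem (hbk i) (Ideal.sum_mem _ fun m _ => ?_)
          refine Ideal.pow_le_pow_right (by omega : k + 1 ≤ k - k₂ + (k₁ + k₂ + 1)) ?_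
          rw [pow_add, ← neg_sub (z' m i) (z m i), mul_neg]
          exact neg_mem (Ideal.mul_mem_mul (he m) (hz' m i))
        have hEq : ∑ i, a' i * f' i = ∑ i, a i * f' i := by
          have h1 : ∀ i, a' i * f' i = a i * f' i - ∑ m, e m * (z' m i * f' i) := fun i => by
            rw [ha']
            simp only [mul_sub, Finset.sum_sub_distrib, hsum i, ← mul_assoc, ← Finset.sum_mul]
            ring
          rw [Finset.sum_congr rfl fun i _ => h1 i, Finset.sum_sub_distrib, Finset.sum_comm]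
          simp only [← Finset.mul_sum, hz'0, mul_zero, Finset.sum_const_zero, sub_zero]
        rw [← hEq] at hn ⊢
        exact ih (k + 1) (by omega) a' ha'k hn

end GrothLib.ArtinAlgz1
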