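import Groth.Agent.Lib.AdicExtra.Complete
import Groth.Agent.Lib.AdicFS.Completion
import Mathlib

/-!
# Complete local algebras with residue field the base as quotients of completed polynomial rings
-/

set_option autoImplicit false

universe u

open IsLocalRing

namespace GrothLib.ArtinAlgz1

variable (k : Type u) [Field k]

/-- The ideal of the origin. -/
noncomputable abbrev org (s : ℕ) : Ideal (MvPolynomial (Fin s) k) :=
  Ideal.span (Set.range MvPolynomial.X)

theorem exists_const_sub_mem (s : ℕ) (p : MvPolynomial (Fin s) k) :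
    ∃ c : k, p - MvPolynomial.C c ∈ org k s := by
  induction p using MvPolynomial.induction_on with
  | C a => exact ⟨a, by simp⟩
  | add p q hp hq =>
    obtain ⟨a, ha⟩ := hp
    obtain ⟨b, hb⟩ := hq
    exact ⟨a + b, by rw [map_add, show p + q - (MvPolynomial.C a + MvPolynomial.C b) =
      p - MvPolynomial.C a + (q - MvPolynomial.C b) by ring]; exact add_mem ha hb⟩
  | mul_X p i _ => exact ⟨0, by rw [map_zero, sub_zero]; exact Ideal.mul_mem_left _ _ (Ideal.subset_span ⟨i, rfl⟩)⟩

theorem org_isMaximal (s : ℕ) : (org k s).IsMaximal := by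
  refine Ideal.isMaximal_iff.2 ⟨fun h => ?_, fun J x hJ hx hxJ => ?_⟩
  · have h1 : org k s ≤ RingHom.ker (MvPolynomial.constantCoeff : MvPolynomial (Fin s) k →+* k) :=
      Ideal.span_le.2 (by rintro _ ⟨i, rfl⟩; exact MvPolynomial.constantCoeff_X _ i)
    exact one_ne_zero ((map_one _).symm.trans (RingHom.mem_ker.1 (h1 h)))
  · obtain ⟨c, hc⟩ := exists_const_sub_mem k s x
    have hc0 : c ≠ 0 := by rintro rfl; exact hx (by simpa using hc)
    have h1 : MvPolynomial.C c ∈ J := by simpa using sub_mem hxJ (hJ hc)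
    simpa [← map_mul, hc0] using J.mul_mem_left (MvPolynomial.C c⁻¹) h1

/-- A surjection from the completed polynomial ring. -/
theorem exists_presentation (R : Type u) [CommRing R] [Algebra k R] [IsLocalRing R] [IsNoetherianRing R]
    [IsAdicComplete (maximalIdeal R) R]
    (hres : Function.Surjective (fun c : k => residue R (algebraMap k R c))) :
    ∃ (s : ℕ) (π : AdicCompletion (org k s) (MvPolynomial (Fin s) k) →ₐ[k] R), Function.Surjective π ∧
      ((org k s).map (algebraMap (MvPolynomial (Fin s) k) (AdicCompletion (org k s) (MvPolynomial (Fin s) k)))).map π =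
        maximalIdeal R := by
  obtain ⟨s, g, hg⟩ := Submodule.fg_iff_exists_fin_generating_family.1 (IsNoetherian.noetherian (maximalIdeal R))
  obtain ⟨π₀, hπ₀⟩ : ∃ π₀ : MvPolynomial (Fin s) k →ₐ[k] R, π₀ = MvPolynomial.aeval g := ⟨_, rfl⟩
  have hπ0M : (org k s).map π₀ = maximalIdeal R := by
    rw [Ideal.map_span, ← Set.range_comp, ← hg]
    exact congrArg (fun v => Submodule.span R (Set.range v)) (funext fun i => by simp [hπ₀])
  obtain ⟨π, hπ⟩ : ∃ π : AdicCompletion (org k s) (MvPolynomial (Fin s) k) →ₐ[k] R,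
      ∀ n x y, AdicCompletion.evalₐ (org k s) n x = Ideal.Quotient.mk _ y →
        Ideal.Quotient.mk (maximalIdeal R ^ n) (π x) = Ideal.Quotient.mk _ (π₀ y) := by
    have hle : ∀ n, org k s ^ n ≤ (maximalIdeal R ^ n).comap π₀ := fun n =>
      Ideal.map_le_iff_le_comap.1 ((Ideal.map_pow π₀ _ n).trans_le (by rw [hπ0M]))
    refine ⟨IsAdicComplete.liftAlgHom (maximalIdeal R)
      (fun n => (Ideal.quotientMapₐ _ π₀ (hle n)).comp ((AdicCompletion.evalₐ (org k s) n).restrictScalars k))
      (fun {m n} hmn => AlgHom.ext fun x => ?_), fun n x y hxy => ?_⟩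
    · obtain ⟨c, rfl⟩ := AdicCompletion.mk_surjective (org k s) _ x
      have h1 := AdicCompletion.AdicCauchySequence.mk_eq_mk hmn c
      rw [Submodule.Quotient.eq, smul_eq_mul, Ideal.mul_top] at h1
      simp only [AlgHom.comp_apply, AlgHom.restrictScalars_apply, AdicCompletion.evalₐ_mk]
      refine Ideal.Quotient.eq.2 ?_
      rw [← map_sub]
      exact hle m h1
    · rw [IsAdicComplete.mk_liftAlgHom, AlgHom.comp_apply, AlgHom.restrictScalars_apply, hxy]
      rfl
  have hMfg : (org k s).FG := IsNoetherian.noetherian _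
  haveI : IsAdicComplete ((org k s).map (algebraMap _ (AdicCompletion (org k s) (MvPolynomial (Fin s) k))))
      (AdicCompletion (org k s) (MvPolynomial (Fin s) k)) := AdicCompletion.isAdicComplete_self _ hMfg
  have hof : ∀ y, π (algebraMap _ _ y) = π₀ y := fun y =>
    sub_eq_zero.1 (IsHausdorff.haus (IsAdicComplete.toIsHausdorff (I := maximalIdeal R) (M := R)) _ fun n => by
      rw [SModEq.sub_mem, sub_zero, smul_eq_mul, Ideal.mul_top, ← Ideal.Quotient.eq]
      exact hπ n _ y (AlgHom.commutes _ y))
  have hM : ((org k s).map (algebraMap (MvPolynomial (Fin s) k) (AdicCompletion (org k s) (MvPolynomial (Fin s) k)))).map π =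
      maximalIdeal R := by
    rw [Ideal.map_span, Ideal.map_span, ← Set.range_comp, ← Set.range_comp, ← hg]
    exact congrArg (fun v => Submodule.span R (Set.range v)) (funext fun i => by simp [hof, hπ₀])
  refine ⟨s, π, ?_, hM⟩
  haveI : IsHausdorff (((org k s).map (algebraMap (MvPolynomial (Fin s) k)
      (AdicCompletion (org k s) (MvPolynomial (Fin s) k)))).map π.toRingHom) R := by
    rw [show ((org k s).map (algebraMap (MvPolynomial (Fin s) k)
      (AdicCompletion (org k s) (MvPolynomial (Fin s) k)))).map π.toRingHom = maximalIdeal R from hM]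
    exact IsAdicComplete.toIsHausdorff
  refine surjective_of_mk_map_comp_surjective π.toRingHom (I := (org k s).map (algebraMap (MvPolynomial (Fin s) k)
      (AdicCompletion (org k s) (MvPolynomial (Fin s) k)))) fun y => ?_
  obtain ⟨y, rfl⟩ := Ideal.Quotient.mk_surjective y
  obtain ⟨c, hc⟩ := hres (residue R y)
  refine ⟨algebraMap k _ c, Ideal.Quotient.eq.2 ?_⟩
  rw [show π.toRingHom (algebraMap k _ c) = algebraMap k R c from π.commutes c]
  exact hM.ge (Ideal.Quotient.eq.1 hc)

end GrothLib.ArtinAlgz1
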