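import Groth.Agent.Lib.ArtinAlgz1.InitialIdeal
import Groth.Agent.Lib.ArtinAlgz1.Presentation
import Groth.Agent.Lib.ArtinAlgz1.GrMaps
import Groth.Agent.Lib.ArtinAlgz1.Dims
import Groth.Agent.Lib.Smoothing.Approx.Etale
import Groth.Agent.Lib.Smoothing.Approx.FunctorAlg
import Groth.Agent.Lib.GRingFT.Main
import Mathlib

/-!
# Algebraization of elements of limit preserving functors over a field
-/

set_option autoImplicit false
set_option maxHeartbeats 1000000

universe u

open CategoryTheory Limits IsLocalRing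

namespace GrothLib.ArtinAlgz1

/-- A finite type algebra agreeing with a complete one to a given order and with the same graded ring. -/
theorem exists_algebraization (k : Type u) [Field k]
    (F : CommAlgCat.{u} k ⥤ Type u)
    (hF : ∀ (J : Type u) [SmallCategory J] [IsFiltered J], PreservesColimitsOfShape J F)
    (R : Type u) [CommRing R] [Algebra k R] [IsLocalRing R] [IsNoetherianRing R]
    [IsAdicComplete (maximalIdeal R) R]
    (hres : Function.Surjective (fun c : k => residue R (algebraMap k R c)))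
    (ξ : F.obj (CommAlgCat.of k R)) (N : ℕ) :
    ∃ (A : Type u) (_ : CommRing A) (_ : Algebra k A) (_ : Algebra.FiniteType k A)
      (m : Ideal A) (_ : m.IsMaximal)
      (_ : Function.Surjective (fun c : k => Ideal.Quotient.mk m (algebraMap k A c)))
      (η : F.obj (CommAlgCat.of k A))
      (φ : (R ⧸ maximalIdeal R ^ (N + 1)) ≃ₐ[k] (A ⧸ m ^ (N + 1))),
      F.map (CommAlgCat.ofHom (φ.toAlgHom.comp (Ideal.Quotient.mkₐ k (maximalIdeal R ^ (N + 1))))) ξ =
        F.map (CommAlgCat.ofHom (Ideal.Quotient.mkₐ k (m ^ (N + 1)))) η ∧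
      (∀ n, Module.Finite k (A ⧸ m ^ n) ∧ Module.Finite k (R ⧸ maximalIdeal R ^ n) ∧
        Module.finrank k (R ⧸ maximalIdeal R ^ n) = Module.finrank k (A ⧸ m ^ n)) ∧
      ∃ e : AssocGr.GrRing (FiltBl.IdealFiltration.adic (maximalIdeal R)) ≃+*
          AssocGr.GrRing (FiltBl.IdealFiltration.adic m),
        (∀ (n : ℕ) (x : AssocGr.GrRing (FiltBl.IdealFiltration.adic (maximalIdeal R))),
            x ∈ AssocGr.gr (FiltBl.IdealFiltration.adic (maximalIdeal R)) n →
              e x ∈ AssocGr.gr (FiltBl.IdealFiltration.adic m) n) ∧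
        (∀ c : k, e (algebraMap R _ (algebraMap k R c)) = algebraMap A _ (algebraMap k A c)) := by
  classical
  haveI : PreservesFilteredColimitsOfSize.{u, u} F := ⟨fun J _ _ => hF J⟩
  obtain ⟨C, _, _, hC, ι₀, x₀, rfl⟩ := Smoothing.Approx.exists_fp_preimage_alg _ F ξ
  obtain ⟨q, θC, hθC, hθfg⟩ := Algebra.FinitePresentation.out (R := k) (A := C)
  obtain ⟨u', g, hg⟩ := Submodule.fg_iff_exists_fin_generating_family.1 hθfg
  obtain ⟨s, π, hπ, hπM⟩ := exists_presentation k R hres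
  haveI := org_isMaximal k s
  set S := MvPolynomial (Fin s) k with hS
  set P := AdicCompletion (org k s) S with hP
  have hfg : (org k s).FG := IsNoetherian.noetherian _
  haveI : IsNoetherianRing P := GrothLib.AdicExtra.isNoetherianRing_adicCompletion _
  obtain ⟨M, hM⟩ : ∃ M : Ideal P, M = (org k s).map (algebraMap S P) := ⟨_, rfl⟩
  rw [← hM] at hπM
  have hMn : ∀ n, M ^ n = (org k s ^ n).map (algebraMap S P) := fun n => by rw [hM, Ideal.map_pow]
  have hSP : ∀ n (p : P), ∃ a : S, p - algebraMap S P a ∈ M ^ n := fun n p => by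
    rw [hM]; exact AdicFS.exists_sub_mem_map_pow hfg n p
  have hSPinj : ∀ n (a : S), algebraMap S P a ∈ M ^ n → a ∈ org k s ^ n := fun n a ha => by
    rw [hM, AdicFS.mem_map_pow_iff hfg, AlgHom.commutes] at ha
    exact Ideal.Quotient.eq_zero_iff_mem.1 ha
  have hPres : ∀ p : P, ∃ c : k, p - algebraMap k P c ∈ M := fun p => by
    obtain ⟨a, ha⟩ := hSP 1 p
    obtain ⟨c, hc⟩ := exists_const_sub_mem k s a
    refine ⟨c, ?_⟩
    rw [pow_one] at ha
    have h1 : algebraMap S P a - algebraMap k P c ∈ M := by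
      rw [IsScalarTower.algebraMap_apply k S P, ← map_sub, hM]
      exact Ideal.mem_map_of_mem _ hc
    simpa using add_mem ha h1
  have hπn : ∀ n (p : P), π p ∈ maximalIdeal R ^ n ↔ p ∈ RingHom.ker π ⊔ M ^ n := fun n p => by
    rw [← hπM, ← Ideal.map_pow, ← Ideal.mem_comap, Ideal.comap_map_of_surjective' _ hπ, sup_comm]
  obtain ⟨r, f, hf⟩ := Submodule.fg_iff_exists_fin_generating_family.1 (IsNoetherian.noetherian (RingHom.ker π))
  have hfk : ∀ i, π (f i) = 0 := fun i =>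
    (hf.le (Submodule.subset_span ⟨i, rfl⟩) : f i ∈ RingHom.ker π)
  obtain ⟨t, z, hz, c₀, hc₀⟩ := exists_bound M f
  obtain ⟨L, hL0, hLN, hLc⟩ : ∃ L, L ≠ 0 ∧ N + 1 ≤ L ∧ c₀ ≤ L := ⟨N + 1 + c₀, by omega, by omega, by omega⟩
  choose b hb using fun j => hπ (ι₀ (θC (MvPolynomial.X j)))
  have hbg : ∀ l, MvPolynomial.aeval b (g l) ∈ Ideal.span (Set.range f) := by
    intro l
    rw [show Ideal.span (Set.range f) = RingHom.ker π from hf, RingHom.mem_ker, ← AlgHom.comp_apply,
      show π.comp (MvPolynomial.aeval b) = ι₀.comp θC from MvPolynomial.algHom_ext fun j => by simp [hb],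
      AlgHom.comp_apply]
    rw [show θC (g l) = 0 from hg.le (Submodule.subset_span ⟨l, rfl⟩), map_zero]
  choose e he using fun l => (Submodule.mem_span_range_iff_exists_fun P).1 (hbg l)
  -- the algebra of approximated quantities
  obtain ⟨G, hG⟩ : ∃ G : Finset P, G = Finset.univ.image f ∪ Finset.univ.image (fun p : Fin t × Fin r => z p.1 p.2) ∪
      Finset.univ.image b ∪ Finset.univ.image (fun p : Fin u' × Fin r => e p.1 p.2) := ⟨_, rfl⟩
  obtain ⟨Q, hQ⟩ : ∃ Q : Subalgebra S P, Q = Algebra.adjoin S (G : Set P) := ⟨_, rfl⟩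
  haveI : Algebra.FiniteType S Q := (Subalgebra.fg_iff_finiteType _).1 ⟨G, hQ.symm⟩
  haveI : Algebra.FinitePresentation S Q := Algebra.FinitePresentation.of_finiteType.1 inferInstance
  have hmem : ∀ p ∈ G, p ∈ Q := fun p hp => hQ ▸ Algebra.subset_adjoin hp
  have hS_G : CAlg.IsGRing S := by
    haveI : IsAdicComplete (maximalIdeal k) k := by rw [IsLocalRing.maximalIdeal_eq_bot]; infer_instance
    exact GrothLib.GRingFT.isGRing_of_finiteType (GrothLib.GRingComplete.isGRing_of_isAdicComplete k) S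
  obtain ⟨E, _, _, hE, χ, τ, hτ, hker⟩ := Smoothing.Approx.exists_etale_approx (org k s)
    (Smoothing.Approx.isRegularHom_adicCompletion hS_G (org k s)) Q Q.val L
  haveI := hE
  obtain ⟨ψ, hψ⟩ := Smoothing.Approx.exists_algHom_completion (org k s) E L hL0 τ
  letI : Algebra k E := ((algebraMap S E).comp (algebraMap k S)).toAlgebra
  haveI : IsScalarTower k S E := IsScalarTower.of_algebraMap_eq fun _ => rfl
  haveI : Algebra.FiniteType k E := Algebra.FiniteType.trans (S := S) inferInstance inferInstance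
  obtain ⟨mE, hmE⟩ : ∃ mE : Ideal E, mE = (org k s).map (algebraMap S E) := ⟨_, rfl⟩
  have hψM : ∀ n, ∀ y ∈ mE ^ n, ψ y ∈ M ^ n := fun n y hy => by
    rw [hmE, ← Ideal.map_pow] at hy
    have h1 := Ideal.mem_map_of_mem ψ hy
    rw [show Ideal.map ψ (Ideal.map (algebraMap S E) (org k s ^ n)) = Ideal.map (algebraMap S P) (org k s ^ n) from
      (Ideal.map_map _ _).trans (congrArg (fun f => Ideal.map f _) ψ.comp_algebraMap)] at h1
    rwa [hMn]
  have hE1 : ∀ y : E, ∃ a : S, y - algebraMap S E a ∈ mE := fun y => by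
    obtain ⟨a, ha⟩ := Ideal.Quotient.mk_surjective (τ y)
    refine ⟨a, ?_⟩
    have h1 : y - algebraMap S E a ∈ RingHom.ker τ.toRingHom := by
      show τ (y - algebraMap S E a) = 0
      rw [map_sub, AlgHom.commutes, ← ha, Ideal.Quotient.algebraMap_eq, sub_self]
    rw [hker, Ideal.map_pow, ← hmE] at h1
    exact Ideal.pow_le_self hL0 h1
  have hEn : ∀ n (y : E), ∃ a : S, y - algebraMap S E a ∈ mE ^ n := by
    intro n
    induction n with
    | zero => exact fun y => ⟨0, by simp⟩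
    | succ n ih =>
      intro y
      obtain ⟨a, ha⟩ := ih y
      suffices h : ∃ a' : S, y - algebraMap S E a - algebraMap S E a' ∈ mE ^ (n + 1) by
        obtain ⟨a', ha'⟩ := h
        exact ⟨a + a', by rwa [map_add, ← sub_sub]⟩
      generalize y - algebraMap S E a = w at ha
      rw [hmE, ← Ideal.map_pow] at ha
      induction ha using Submodule.span_induction with
      | mem w hw =>
        obtain ⟨a', -, rfl⟩ := hw
        exact ⟨a', by rw [sub_self]; exact zero_mem _⟩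
      | zero => exact ⟨0, by simp⟩
      | add v v' _ _ h h' =>
        obtain ⟨a₁, h₁⟩ := h
        obtain ⟨a₂, h₂⟩ := h'
        exact ⟨a₁ + a₂, by rw [map_add, show v + v' - (algebraMap S E a₁ + algebraMap S E a₂) =
          v - algebraMap S E a₁ + (v' - algebraMap S E a₂) by ring]; exact add_mem h₁ h₂⟩
      | smul c v hv h =>
        obtain ⟨a₁, h₁⟩ := h
        obtain ⟨a₂, h₂⟩ := hE1 c
        refine ⟨a₂ * a₁, ?_⟩
        rw [smul_eq_mul, map_mul, show c * v - algebraMap S E a₂ * algebraMap S E a₁ =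
          (c - algebraMap S E a₂) * v + algebraMap S E a₂ * (v - algebraMap S E a₁) by ring]
        refine add_mem ?_ (Ideal.mul_mem_left _ _ h₁)
        rw [pow_succ']
        refine Ideal.mul_mem_mul h₂ ?_
        rw [hmE, ← Ideal.map_pow]
        exact hv
  have hψinj : ∀ n (y : E), ψ y ∈ M ^ n → y ∈ mE ^ n := fun n y hy => by
    obtain ⟨a, ha⟩ := hEn n y
    have h1 := hψM n _ ha
    rw [map_sub, AlgHom.commutes] at h1
    have h2 : algebraMap S E a ∈ mE ^ n := by
      rw [hmE, ← Ideal.map_pow]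
      exact Ideal.mem_map_of_mem _ (hSPinj n a (by simpa using sub_mem hy h1))
    simpa using add_mem ha h2
  have hψsurj : ∀ n (p : P), ∃ y : E, p - ψ y ∈ M ^ n := fun n p => by
    obtain ⟨a, ha⟩ := hSP n p
    exact ⟨algebraMap S E a, by rwa [AlgHom.commutes]⟩
  have happrox : ∀ y : Q, ψ (χ y) - (y : P) ∈ M ^ L := fun y => by
    rw [hM, AdicFS.mem_map_pow_iff hfg, map_sub, sub_eq_zero]
    exact (AlgHom.congr_fun hψ (χ y)).trans (AlgHom.congr_fun hτ y)
  -- the approximating ring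
  let fQ : Fin r → Q := fun i => ⟨f i, hmem _ (by rw [hG]; simp)⟩
  let zQ : Fin t → Fin r → Q := fun m i => ⟨z m i, hmem _ (by rw [hG]; simp)⟩
  let bQ : Fin q → Q := fun j => ⟨b j, hmem _ (by rw [hG]; simp)⟩
  let eQ : Fin u' → Fin r → Q := fun l i => ⟨e l i, hmem _ (by rw [hG]; simp)⟩
  obtain ⟨f', hf'⟩ : ∃ f' : Fin r → E, f' = fun i => χ (fQ i) := ⟨_, rfl⟩
  obtain ⟨I', hI'⟩ : ∃ I' : Ideal P, I' = Ideal.span (Set.range fun i => ψ (f' i)) := ⟨_, rfl⟩
  have hf'0 : ∀ m, ∑ i, ψ (χ (zQ m i)) * ψ (f' i) = 0 := fun m => by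
    simp only [hf', ← map_mul, ← map_sum]
    rw [show ∑ i, zQ m i * fQ i = (0 : Q) from Subtype.ext (by push_cast; exact hz m), map_zero, map_zero]
  have hinit : ∀ n, Ideal.span (Set.range f) ⊓ M ^ n ≤ I' ⊔ M ^ (n + 1) ∧
      I' ⊓ M ^ n ≤ Ideal.span (Set.range f) ⊔ M ^ (n + 1) := fun n => by
    rw [hI']
    exact hc₀ _ (fun m i => ψ (χ (zQ m i)))
      (fun i => Ideal.pow_le_pow_right hLc (by rw [hf']; exact happrox (fQ i)))
      (fun m i => Ideal.pow_le_pow_right hLc (happrox (zQ m i))) hf'0 n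
  rw [show Ideal.span (Set.range f) = RingHom.ker π from hf] at hinit
  have hker' : ∀ n, ∀ a ∈ M ^ n, (a ∈ RingHom.ker π ⊔ M ^ (n + 1) ↔ a ∈ I' ⊔ M ^ (n + 1)) := by
    intro n a ha
    have key : ∀ (J J' : Ideal P), J ⊓ M ^ n ≤ J' ⊔ M ^ (n + 1) → a ∈ J ⊔ M ^ (n + 1) → a ∈ J' ⊔ M ^ (n + 1) := by
      intro J J' hJ haJ
      obtain ⟨j, hj, w, hw, rfl⟩ := Submodule.mem_sup.1 haJ
      exact add_mem (hJ ⟨hj, by simpa using sub_mem ha (Ideal.pow_le_pow_right n.le_succ hw)⟩) (Ideal.mem_sup_right hw)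
    exact ⟨key _ _ (hinit n).1, key _ _ (hinit n).2⟩
  obtain ⟨m, hm⟩ : ∃ m : Ideal (E ⧸ Ideal.span (Set.range f')), m = mE.map (Ideal.Quotient.mk _) := ⟨_, rfl⟩
  have hmn : ∀ n (y : E), Ideal.Quotient.mk (Ideal.span (Set.range f')) y ∈ m ^ n ↔ ψ y ∈ I' ⊔ M ^ n := by
    intro n y
    rw [hm, ← Ideal.map_pow, ← Ideal.mem_comap, Ideal.comap_map_of_surjective' _ Ideal.Quotient.mk_surjective,
      Ideal.mk_ker, sup_comm]
    constructor
    · intro h
      obtain ⟨j, hj, w, hw, rfl⟩ := Submodule.mem_sup.1 h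
      rw [map_add]
      refine add_mem (Ideal.mem_sup_left ?_) (Ideal.mem_sup_right (hψM n w hw))
      obtain ⟨a, rfl⟩ := (Submodule.mem_span_range_iff_exists_fun E).1 hj
      rw [map_sum, hI']
      exact Ideal.sum_mem _ fun i _ => by
        rw [smul_eq_mul, map_mul]; exact Ideal.mul_mem_left _ _ (Ideal.subset_span ⟨i, rfl⟩)
    · intro h
      obtain ⟨j, hj, w, hw, hjw⟩ := Submodule.mem_sup.1 h
      rw [hI'] at hj
      obtain ⟨p, rfl⟩ := (Submodule.mem_span_range_iff_exists_fun P).1 hj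
      choose a ha using fun i => hψsurj n (p i)
      refine Submodule.mem_sup.2 ⟨∑ i, a i * f' i,
        Ideal.sum_mem _ fun i _ => Ideal.mul_mem_left _ _ (Ideal.subset_span ⟨i, rfl⟩), y - ∑ i, a i * f' i,
        hψinj n _ ?_, add_sub_cancel _ _⟩
      rw [map_sub, map_sum, ← hjw, show (∑ i, p i • ψ (f' i)) + w - ∑ i, ψ (a i * f' i) =
        w + ∑ i, (p i - ψ (a i)) * ψ (f' i) by simp only [sub_mul, Finset.sum_sub_distrib, map_mul, smul_eq_mul]; ring]
      exact add_mem hw (Ideal.sum_mem _ fun i _ => Ideal.mul_mem_right _ _ (ha i))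
  have hI'M : I' ≤ M := by
    rw [hI', Ideal.span_le]
    rintro _ ⟨i, rfl⟩
    have hfM : f i ∈ M := by
      obtain ⟨c, hc⟩ := hPres (f i)
      rcases eq_or_ne c 0 with rfl | hc0
      · simpa using hc
      · exfalso
        have h1 := hπM.le (Ideal.mem_map_of_mem π hc)
        rw [map_sub, hfk, zero_sub, neg_mem_iff, AlgHom.commutes] at h1
        exact h1 ((isUnit_iff_ne_zero.2 hc0).map (algebraMap k R))
    have h2 : ψ (f' i) - f i ∈ M := by rw [hf']; exact Ideal.pow_le_self hL0 (happrox (fQ i))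
    simpa using add_mem h2 hfM
  haveI hmax : m.IsMaximal := by
    refine Ideal.isMaximal_iff.2 ⟨fun h => ?_, fun J x hJ hx hxJ => ?_⟩
    · have h1 := (hmn 1 1).1 (by rwa [map_one, pow_one])
      rw [map_one, pow_one] at h1
      have h2 := hπM.le (Ideal.mem_map_of_mem π ((sup_le hI'M le_rfl : I' ⊔ M ≤ M) h1))
      rw [map_one] at h2
      exact (maximalIdeal.isMaximal R).ne_top ((Ideal.eq_top_iff_one _).2 h2)
    · obtain ⟨y, rfl⟩ := Ideal.Quotient.mk_surjective x
      obtain ⟨a, ha⟩ := hE1 y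
      obtain ⟨c, hc⟩ := exists_const_sub_mem k s a
      have h1 : y - algebraMap k E c ∈ mE := by
        have h2 : algebraMap S E a - algebraMap k E c ∈ mE := by
          rw [IsScalarTower.algebraMap_apply k S E, ← map_sub, hmE]
          exact Ideal.mem_map_of_mem _ hc
        simpa using add_mem ha h2
      have hc0 : c ≠ 0 := by
        rintro rfl
        rw [map_zero, sub_zero] at h1
        exact hx (hm ▸ Ideal.mem_map_of_mem _ h1)
      have h3 : Ideal.Quotient.mk (Ideal.span (Set.range f')) (algebraMap k E c) ∈ J := by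
        have h4 := sub_mem hxJ (hJ (hm ▸ Ideal.mem_map_of_mem (Ideal.Quotient.mk (Ideal.span (Set.range f'))) h1))
        rwa [map_sub, sub_sub_cancel] at h4
      simpa [← map_mul, hc0] using J.mul_mem_left (Ideal.Quotient.mk _ (algebraMap k E c⁻¹)) h3
  have hAres : Function.Surjective (fun c : k => Ideal.Quotient.mk m (algebraMap k (E ⧸ Ideal.span (Set.range f')) c)) := by
    intro x
    obtain ⟨x, rfl⟩ := Ideal.Quotient.mk_surjective x
    obtain ⟨y, rfl⟩ := Ideal.Quotient.mk_surjective x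
    obtain ⟨a, ha⟩ := hE1 y
    obtain ⟨c, hc⟩ := exists_const_sub_mem k s a
    refine ⟨c, Ideal.Quotient.eq.2 ?_⟩
    rw [show algebraMap k (E ⧸ Ideal.span (Set.range f')) c = Ideal.Quotient.mk _ (algebraMap k E c) from rfl,
      ← neg_sub, ← map_sub, hm]
    refine neg_mem (Ideal.mem_map_of_mem _ ?_)
    have h2 : algebraMap S E a - algebraMap k E c ∈ mE := by
      rw [IsScalarTower.algebraMap_apply k S E, ← map_sub, hmE]
      exact Ideal.mem_map_of_mem _ hc
    simpa using add_mem ha h2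
  -- comparison of the truncations
  have hεA : ∀ n, ∃ ε : ((E ⧸ Ideal.span (Set.range f')) ⧸ m ^ n) ≃ₐ[k] (P ⧸ (I' ⊔ M ^ n)),
      ∀ y, ε (Ideal.Quotient.mk _ (Ideal.Quotient.mk _ y)) = Ideal.Quotient.mk _ (ψ y) := by
    intro n
    obtain ⟨ε, hε⟩ := exists_algEquiv_of_ker_eq ((Ideal.Quotient.mkₐ k (m ^ n)).comp (Ideal.Quotient.mkₐ k _))
      (Ideal.Quotient.mk_surjective.comp Ideal.Quotient.mk_surjective)
      ((Ideal.Quotient.mkₐ k (I' ⊔ M ^ n)).comp (ψ.restrictScalars k)) (fun p => by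
        obtain ⟨p, rfl⟩ := Ideal.Quotient.mk_surjective p
        obtain ⟨y, hy⟩ := hψsurj n p
        exact ⟨y, (Ideal.Quotient.eq.2 (Ideal.mem_sup_right hy)).symm⟩) (by
        ext y
        exact (Ideal.Quotient.eq_zero_iff_mem.trans (hmn n y)).trans Ideal.Quotient.eq_zero_iff_mem.symm)
    exact ⟨ε, hε⟩
  choose εA hεA using hεA
  have hεR : ∀ n, ∃ ε : (R ⧸ maximalIdeal R ^ n) ≃ₐ[k] (P ⧸ (RingHom.ker π ⊔ M ^ n)),
      ∀ p, ε (Ideal.Quotient.mk _ (π p)) = Ideal.Quotient.mk _ p := by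
    intro n
    obtain ⟨ε, hε⟩ := exists_algEquiv_of_ker_eq ((Ideal.Quotient.mkₐ k (maximalIdeal R ^ n)).comp π)
      (Ideal.Quotient.mk_surjective.comp hπ) (Ideal.Quotient.mkₐ k (RingHom.ker π ⊔ M ^ n))
      Ideal.Quotient.mk_surjective (by
        ext p
        exact (Ideal.Quotient.eq_zero_iff_mem.trans (hπn n p)).trans Ideal.Quotient.eq_zero_iff_mem.symm)
    exact ⟨ε, hε⟩
  choose εR hεR using hεR
  have hclose : RingHom.ker π ⊔ M ^ (N + 1) = I' ⊔ M ^ (N + 1) := by
    refine le_antisymm (sup_le ?_ le_sup_right) (sup_le ?_ le_sup_right)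
    · rw [← hf, Submodule.span_le]
      rintro _ ⟨i, rfl⟩
      have h1 := Ideal.pow_le_pow_right hLN (happrox (fQ i))
      rw [← sub_sub_cancel (ψ (f' i)) (f i)]
      refine sub_mem (Ideal.mem_sup_left (hI' ▸ Ideal.subset_span ⟨i, rfl⟩)) (Ideal.mem_sup_right ?_)
      rw [hf']
      exact h1
    · rw [hI', Ideal.span_le]
      rintro _ ⟨i, rfl⟩
      have h1 := Ideal.pow_le_pow_right hLN (happrox (fQ i))
      show ψ (f' i) ∈ _
      rw [← sub_add_cancel (ψ (f' i)) (f i)]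
      refine add_mem (Ideal.mem_sup_right ?_) (Ideal.mem_sup_left (hfk i))
      rw [hf']
      exact h1
  obtain ⟨φ, hφ⟩ : ∃ φ : (R ⧸ maximalIdeal R ^ (N + 1)) ≃ₐ[k] ((E ⧸ Ideal.span (Set.range f')) ⧸ m ^ (N + 1)),
      ∀ p y, p - ψ y ∈ M ^ (N + 1) → φ (Ideal.Quotient.mk _ (π p)) = Ideal.Quotient.mk _ (Ideal.Quotient.mk _ y) := by
    refine ⟨((εR (N + 1)).trans (Ideal.quotientEquivAlgOfEq k hclose)).trans (εA (N + 1)).symm, fun p y hpy => ?_⟩
    rw [AlgEquiv.trans_apply, AlgEquiv.trans_apply, hεR, AlgEquiv.symm_apply_eq, hεA,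
      Ideal.quotientEquivAlgOfEq_mk, Ideal.Quotient.eq]
    exact Ideal.mem_sup_right hpy
  obtain ⟨cA, hcA⟩ : ∃ cA : C →ₐ[k] E ⧸ Ideal.span (Set.range f'),
      ∀ j, cA (θC (MvPolynomial.X j)) = Ideal.Quotient.mk _ (χ (bQ j)) := by
    obtain ⟨α, hα⟩ : ∃ α : MvPolynomial (Fin q) k →ₐ[k] E ⧸ Ideal.span (Set.range f'),
        α = MvPolynomial.aeval fun j => Ideal.Quotient.mk _ (χ (bQ j)) := ⟨_, rfl⟩
    have hαk : RingHom.ker θC.toRingHom ≤ RingHom.ker α.toRingHom := by
      rw [← hg, Submodule.span_le]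
      rintro _ ⟨l, rfl⟩
      show α (g l) = 0
      have h1 : α = ((Ideal.Quotient.mkₐ k _).comp (χ.restrictScalars k)).comp (MvPolynomial.aeval bQ) :=
        MvPolynomial.algHom_ext fun j => by simp [hα]
      have h2 : MvPolynomial.aeval bQ (g l) = ∑ i, eQ l i * fQ i := by
        apply Subtype.val_injective
        rw [show ((MvPolynomial.aeval bQ (g l) : Q) : P) = MvPolynomial.aeval b (g l) from
          AlgHom.congr_fun (MvPolynomial.comp_aeval bQ (Q.val.restrictScalars k)) (g l), ← he l]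
        push_cast
        rfl
      rw [h1, AlgHom.comp_apply, h2, map_sum]
      refine Finset.sum_eq_zero fun i _ => ?_
      rw [map_mul, show ((Ideal.Quotient.mkₐ k _).comp (χ.restrictScalars k)) (fQ i) = 0 from
        (Ideal.Quotient.eq_zero_iff_mem (I := Ideal.span (Set.range f'))).2
          (Ideal.subset_span (show χ (fQ i) ∈ Set.range f' from ⟨i, by rw [hf']⟩)), mul_zero]
    refine ⟨(Ideal.Quotient.liftₐ _ α fun a ha => hαk ha).comp
      (Ideal.quotientKerAlgEquivOfSurjective hθC).symm.toAlgHom, fun j => ?_⟩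
    have hsym : (Ideal.quotientKerAlgEquivOfSurjective hθC).symm (θC (MvPolynomial.X j)) =
      Ideal.Quotient.mk _ (MvPolynomial.X j) := (AlgEquiv.symm_apply_eq _).2 rfl
    refine (congrArg (Ideal.Quotient.liftₐ _ α fun a ha => hαk ha) hsym).trans ?_
    show α (MvPolynomial.X j) = _
    rw [hα, MvPolynomial.aeval_X]
  obtain ⟨hfinA, hfinR, hdim⟩ : (∀ n, Module.Finite k ((E ⧸ Ideal.span (Set.range f')) ⧸ m ^ n)) ∧
      (∀ n, Module.Finite k (R ⧸ maximalIdeal R ^ n)) ∧ ∀ n, Module.finrank k (R ⧸ maximalIdeal R ^ n) =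
        Module.finrank k ((E ⧸ Ideal.span (Set.range f')) ⧸ m ^ n) := by
    have hMfg : M.FG := IsNoetherian.noetherian _
    have hfin : ∀ (J : Ideal P) n, Module.Finite k (P ⧸ (J ⊔ M ^ n)) := fun J n =>
      haveI := finite_quotient_pow M hMfg hPres n
      Module.Finite.of_surjective (Ideal.Quotient.factorₐ k (le_sup_right : M ^ n ≤ J ⊔ M ^ n)).toLinearMap
        (Ideal.Quotient.factor_surjective (le_sup_right : M ^ n ≤ J ⊔ M ^ n))
    exact ⟨fun n => haveI := hfin I' n; Module.Finite.equiv (εA n).symm.toLinearEquiv,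
      fun n => haveI := hfin (RingHom.ker π) n; Module.Finite.equiv (εR n).symm.toLinearEquiv,
      fun n => by rw [(εR n).toLinearEquiv.finrank_eq, (εA n).toLinearEquiv.finrank_eq, finrank_eq M _ _ hMfg hPres hker']⟩
  refine ⟨E ⧸ Ideal.span (Set.range f'), inferInstance, inferInstance, inferInstance, m, hmax, hAres,
    F.map (CommAlgCat.ofHom cA) x₀, φ, ?_, fun n => ⟨hfinA n, hfinR n, hdim n⟩, ?_⟩
  · rw [← Functor.map_comp_apply, ← Functor.map_comp_apply, ← CommAlgCat.ofHom_comp, ← CommAlgCat.ofHom_comp]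
    refine congrArg (fun g => F.map (CommAlgCat.ofHom g) x₀) ?_
    refine (AlgHom.cancel_right hθC).1 (MvPolynomial.algHom_ext fun j => ?_)
    show φ (Ideal.Quotient.mk _ (ι₀ (θC (MvPolynomial.X j)))) = Ideal.Quotient.mk _ (cA (θC (MvPolynomial.X j)))
    rw [← hb, hcA]
    refine hφ _ _ ?_
    rw [← neg_sub]
    exact neg_mem (Ideal.pow_le_pow_right hLN (happrox (bQ j)))
  -- graded rings
  obtain ⟨ψ', hψ'⟩ : ∃ ψ' : (E ⧸ Ideal.span (Set.range f')) →+* P ⧸ I',
      ∀ y, ψ' (Ideal.Quotient.mk _ y) = Ideal.Quotient.mk _ (ψ y) :=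
    ⟨Ideal.quotientMap I' ψ.toRingHom (Ideal.span_le.2 (by
      rintro _ ⟨i, rfl⟩; exact hI' ▸ Ideal.subset_span ⟨i, rfl⟩)), fun y => rfl⟩
  have hPn : ∀ n (p : P), Ideal.Quotient.mk I' p ∈ (M.map (Ideal.Quotient.mk I')) ^ n ↔ p ∈ I' ⊔ M ^ n := fun n p => by
    rw [← Ideal.map_pow, ← Ideal.mem_comap, Ideal.comap_map_of_surjective' _ Ideal.Quotient.mk_surjective,
      Ideal.mk_ker, sup_comm]
  have h₁ : AssocGr.IsFiltHom π.toRingHom (FiltBl.IdealFiltration.adic M)
      (FiltBl.IdealFiltration.adic (maximalIdeal R)) := AssocGr.IsFiltHom.adic hπM.le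
  have h₂ : AssocGr.IsFiltHom (Ideal.Quotient.mk I') (FiltBl.IdealFiltration.adic M)
      (FiltBl.IdealFiltration.adic (M.map (Ideal.Quotient.mk I'))) := AssocGr.IsFiltHom.adic le_rfl
  have h₃ : AssocGr.IsFiltHom ψ' (FiltBl.IdealFiltration.adic m)
      (FiltBl.IdealFiltration.adic (M.map (Ideal.Quotient.mk I'))) := fun n a ha => by
    obtain ⟨y, rfl⟩ := Ideal.Quotient.mk_surjective a
    show ψ' _ ∈ (M.map (Ideal.Quotient.mk I')) ^ n
    rw [hψ', hPn]
    exact (hmn n y).1 ha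
  obtain ⟨e₁, he₁, he₁'⟩ := exists_iso_of_ker_eq h₁ h₂ (fun n c hc => by
      obtain ⟨p, rfl⟩ := hπ c
      obtain ⟨j, hj, w, hw, rfl⟩ := Submodule.mem_sup.1 ((hπn n p).1 hc)
      refine ⟨w, hw, ?_⟩
      show π (j + w) - π w ∈ maximalIdeal R ^ (n + 1)
      rw [map_add, RingHom.mem_ker.1 hj, zero_add, sub_self]
      exact zero_mem _)
    (fun n c hc => by
      obtain ⟨p, rfl⟩ := Ideal.Quotient.mk_surjective c
      obtain ⟨j, hj, w, hw, rfl⟩ := Submodule.mem_sup.1 ((hPn n p).1 hc)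
      refine ⟨w, hw, ?_⟩
      rw [map_add, Ideal.Quotient.eq_zero_iff_mem.2 hj, zero_add, sub_self]
      exact zero_mem _)
    (fun n a ha => (hπn (n + 1) a).trans ((hker' n a ha).trans (hPn (n + 1) a).symm))
  have hs₃ : ∀ n, ∀ c ∈ (M.map (Ideal.Quotient.mk I')) ^ n,
      ∃ a ∈ m ^ n, c - ψ' a ∈ (M.map (Ideal.Quotient.mk I')) ^ (n + 1) := fun n c hc => by
    obtain ⟨p, rfl⟩ := Ideal.Quotient.mk_surjective c
    obtain ⟨y, hy⟩ := hψsurj (n + 1) p
    refine ⟨Ideal.Quotient.mk _ y, (hmn n y).2 ?_, ?_⟩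
    · simpa using sub_mem ((hPn n p).1 hc) (Ideal.mem_sup_right (Ideal.pow_le_pow_right n.le_succ hy) : p - ψ y ∈ I' ⊔ M ^ n)
    · rw [hψ', ← map_sub, hPn]
      exact Ideal.mem_sup_right hy
  have hb₃ := map_bijective h₃ hs₃ fun n a ha ha' => by
    obtain ⟨y, rfl⟩ := Ideal.Quotient.mk_surjective a
    rw [hψ'] at ha'
    exact (hmn (n + 1) y).2 ((hPn (n + 1) _).1 ha')
  refine ⟨e₁.trans (RingEquiv.ofBijective _ hb₃).symm, fun n x hx => ?_, fun c => ?_⟩
  · obtain ⟨y, hy, hyx⟩ := exists_mem_gr h₃ hs₃ n (he₁ n x hx)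
    rw [RingEquiv.trans_apply, ← hyx,
      show (RingEquiv.ofBijective _ hb₃).symm (AssocGr.map h₃ y) = y from (RingEquiv.symm_apply_eq _).2 rfl]
    exact hy
  · rw [RingEquiv.trans_apply, RingEquiv.symm_apply_eq, RingEquiv.ofBijective_apply, AssocGr.map_algebraMap,
      show algebraMap k R c = π.toRingHom (algebraMap k P c) from (π.commutes c).symm, ← AssocGr.map_algebraMap h₁,
      he₁', AssocGr.map_algebraMap]
    congr 1
    rw [show algebraMap k (E ⧸ Ideal.span (Set.range f')) c = Ideal.Quotient.mk _ (algebraMap k E c) from rfl, hψ']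
    congr 1
    exact ((ψ.restrictScalars k).commutes c).symm

end GrothLib.ArtinAlgz1
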